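import Groth.Agent.S7383
import Groth.Agent.S0591
import Groth.Agent.Lib.VarDim.Irred
import Mathlib

/-!
# Very general fibres: countable models and isomorphisms of algebraically closed fields
-/

set_option autoImplicit false
universe u

open CategoryTheory CategoryTheory.Limits AlgebraicGeometry TopologicalSpace
open scoped Cardinal

namespace Groth.Agent.VeryGen4

theorem countable_finiteType_int {A B : Type u} [CommRing A] [CommRing B] [Countable A] (φ : A →+* B)
    (h : φ.FiniteType) : Countable B := by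
  letI := φ.toAlgebra
  obtain ⟨n, g, hg⟩ := Algebra.FiniteType.iff_quotient_mvPolynomial''.mp (show Algebra.FiniteType A B from h)
  haveI : Countable (MvPolynomial (Fin n) A) := Cardinal.mk_le_aleph0_iff.mp
    (MvPolynomial.cardinalMk_le_max_lift.trans (by simp [Cardinal.mk_le_aleph0]))
  exact hg.countable

theorem countable_localization {A B : Type u} [CommRing A] [CommRing B] [Algebra A B] (M : Submonoid A)
    [IsLocalization M B] [Countable A] : Countable B :=
  Function.Surjective.countable (f := fun p : A × M => IsLocalization.mk' B p.1 p.2) fun z => by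
    obtain ⟨⟨a, s⟩, h⟩ := IsLocalization.surj M z
    exact ⟨(a, s), IsLocalization.mk'_eq_iff_eq_mul.mpr h.symm⟩

theorem mk_localization_le {A B : Type u} [CommRing A] [CommRing B] [Algebra A B] (M : Submonoid A)
    [IsLocalization M B] : #B ≤ #A * #M :=
  (Cardinal.mk_le_of_surjective (f := fun p : A × M => IsLocalization.mk' B p.1 p.2) fun z => by
    obtain ⟨⟨a, s⟩, h⟩ := IsLocalization.surj M z
    exact ⟨(a, s), IsLocalization.mk'_eq_iff_eq_mul.mpr h.symm⟩).trans (le_of_eq (Cardinal.mul_def _ _).symm)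

/-- Points and residue fields of a scheme of finite type over a countable Noetherian ring are countable. -/
theorem countable_of_finiteType {S₀ : Scheme.{u}} {R : CommRingCat.{u}} [Countable R] [IsNoetherianRing R]
    (p : S₀ ⟶ Spec R) [LocallyOfFiniteType p] [CompactSpace S₀] :
    Countable S₀ ∧ ∀ s : S₀, Countable (S₀.residueField s) := by
  haveI : IsLocallyNoetherian S₀ := LocallyOfFiniteType.isLocallyNoetherian p
  have hsec : ∀ {W : S₀.Opens}, IsAffineOpen W → Countable Γ(S₀, W) := by
    intro W hW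
    have h : (p.appLE ⊤ W le_top).hom.FiniteType := p.finiteType_appLE (isAffineOpen_top _) hW le_top
    haveI : Countable Γ(Spec R, ⊤) :=
      (Scheme.ΓSpecIso R).commRingCatIsoToRingEquiv.symm.surjective.countable
    exact countable_finiteType_int _ h
  have hpt : ∀ {W : S₀.Opens}, IsAffineOpen W → Countable W := by
    intro W hW
    haveI := hsec hW
    haveI : IsNoetherianRing Γ(S₀, W) := IsLocallyNoetherian.component_noetherian ⟨W, hW⟩
    haveI : Countable (Ideal Γ(S₀, W)) :=
      Function.Surjective.countable (f := fun F : Finset Γ(S₀, W) => Ideal.span (F : Set Γ(S₀, W))) fun I => by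
        obtain ⟨F, hF⟩ := IsNoetherian.noetherian I
        exact ⟨F, hF⟩
    exact Function.Injective.countable (α := W) (f := fun w => (hW.primeIdealOf w).asIdeal) fun a b h =>
      Subtype.ext ((hW.fromSpec_primeIdealOf a).symm.trans
        ((congrArg (fun P => hW.fromSpec P) (PrimeSpectrum.ext h)).trans (hW.fromSpec_primeIdealOf b)))
  obtain ⟨W, hWfin, hWcov⟩ : ∃ W : Set S₀.affineOpens, W.Finite ∧ ∀ x : S₀, ∃ V ∈ W, x ∈ V.1 := by
    have hU : ∀ x : S₀, ∃ V : S₀.affineOpens, x ∈ V.1 := fun x => by
      obtain ⟨V, hV, hxV, -⟩ := exists_isAffineOpen_mem_and_subset (X := S₀) (x := x) (U := ⊤) trivial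
      exact ⟨⟨V, hV⟩, hxV⟩
    choose V hV using hU
    obtain ⟨t, ht⟩ := isCompact_univ.elim_finite_subcover (fun x => ((V x).1 : Set S₀))
      (fun x => (V x).1.2) fun x _ => Set.mem_iUnion.2 ⟨x, hV x⟩
    refine ⟨V '' t, t.finite_toSet.image _, fun x => ?_⟩
    obtain ⟨y, hy, hxy⟩ := Set.mem_iUnion₂.1 (ht (Set.mem_univ x))
    exact ⟨V y, ⟨y, hy, rfl⟩, hxy⟩
  refine ⟨?_, fun s => ?_⟩
  · haveI : Countable W := hWfin.countable.to_subtype
    haveI : ∀ V : W, Countable V.1.1 := fun V => hpt V.1.2
    exact Function.Surjective.countable (f := fun q : Σ V : W, V.1.1 => q.2.val) fun x => by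
      obtain ⟨V, hV, hx⟩ := hWcov x
      exact ⟨⟨⟨V, hV⟩, ⟨x, hx⟩⟩, rfl⟩
  · obtain ⟨V, -, hs⟩ := hWcov s
    haveI := hsec V.2
    letI : Algebra Γ(S₀, V.1) (S₀.presheaf.stalk s) := (S₀.presheaf.germ V.1 s hs).hom.toAlgebra
    haveI := V.2.isLocalization_stalk ⟨s, hs⟩
    haveI : Countable (S₀.presheaf.stalk s) :=
      countable_localization (A := Γ(S₀, V.1)) (V.2.primeIdealOf ⟨s, hs⟩).asIdeal.primeCompl
    exact (S₀.residue_surjective s).countable

/-- A function field over a field `k` has cardinality at most that of `k` (if `k` is infinite). -/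
theorem mk_residueField_le {k : Type u} [Field k] [Infinite k] {T : Scheme.{u}} (sT : T ⟶ Spec (CommRingCat.of k))
    [LocallyOfFiniteType sT] (x : T) : #(T.residueField x) ≤ #k := by
  obtain ⟨W, hW, hxW, -⟩ := exists_isAffineOpen_mem_and_subset (X := T) (x := x) (U := ⊤) trivial
  letI := ((Scheme.ΓSpecIso (CommRingCat.of k)).inv ≫ sT.appLE ⊤ W le_top).hom.toAlgebra
  haveI : Algebra.FiniteType k Γ(T, W) :=
    RingHom.FiniteType.comp (sT.finiteType_appLE (isAffineOpen_top _) hW le_top)
      (RingHom.FiniteType.of_surjective _ (Scheme.ΓSpecIso (CommRingCat.of k)).commRingCatIsoToRingEquiv.symm.surjective)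
  have hk : ℵ₀ ≤ #k := Cardinal.aleph0_le_mk k
  have hA : #Γ(T, W) ≤ #k := by
    obtain ⟨n, g, hg⟩ := Algebra.FiniteType.iff_quotient_mvPolynomial''.mp (inferInstance : Algebra.FiniteType k Γ(T, W))
    refine (Cardinal.mk_le_of_surjective hg).trans (MvPolynomial.cardinalMk_le_max_lift.trans ?_)
    simp only [Cardinal.mk_fintype, Fintype.card_fin, Cardinal.lift_natCast, Cardinal.lift_id']
    exact max_le (max_le le_rfl ((Cardinal.natCast_lt_aleph0 (n := n)).le.trans hk)) hk
  letI : Algebra Γ(T, W) (T.presheaf.stalk x) := (T.presheaf.germ W x hxW).hom.toAlgebra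
  haveI := hW.isLocalization_stalk ⟨x, hxW⟩
  refine (Cardinal.mk_le_of_surjective (T.residue_surjective x)).trans
    ((mk_localization_le (hW.primeIdealOf ⟨x, hxW⟩).asIdeal.primeCompl).trans ?_)
  exact (mul_le_mul' hA ((Cardinal.mk_subtype_le _).trans hA)).trans (Cardinal.mul_eq_self hk).le

/-- Two algebraically closed uncountable fields of the same cardinality are isomorphic over any
countable common subfield. -/
theorem exists_ringEquiv {F K L : Type u} [Field F] [Field K] [Field L] [IsAlgClosed K] [IsAlgClosed L]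
    [Countable F] (i : F →+* K) (j : F →+* L) (hK : ℵ₀ < #K) (hKL : #K = #L) :
    ∃ σ : K ≃+* L, ∀ a, σ (i a) = j a := by
  letI := i.toAlgebra
  letI := j.toAlgebra
  obtain ⟨s, hs⟩ := exists_isTranscendenceBasis F K
  obtain ⟨t, ht⟩ := exists_isTranscendenceBasis F L
  have hF : #F ≤ ℵ₀ := Cardinal.mk_le_aleph0
  have hst : #s = #t := by
    rw [← IsAlgClosed.cardinal_eq_cardinal_transcendence_basis_of_aleph0_lt' _ hs hF hK,
      ← IsAlgClosed.cardinal_eq_cardinal_transcendence_basis_of_aleph0_lt' _ ht hF (hKL ▸ hK), hKL]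
  obtain ⟨e⟩ := Cardinal.eq.1 hst
  letI := IsAlgClosed.isAlgClosure_of_transcendence_basis _ hs
  letI := IsAlgClosed.isAlgClosure_of_transcendence_basis _ ht
  let eA := (hs.1.aevalEquiv.symm.trans (MvPolynomial.renameEquiv F e)).trans ht.1.aevalEquiv
  refine ⟨IsAlgClosure.equivOfEquiv K L eA.toRingEquiv, fun a => ?_⟩
  show IsAlgClosure.equivOfEquiv K L eA.toRingEquiv (algebraMap F K a) = algebraMap F L a
  rw [IsScalarTower.algebraMap_apply F (Algebra.adjoin F (Set.range ((↑) : s → K))) K,
    IsAlgClosure.equivOfEquiv_algebraMap, show eA.toRingEquiv (algebraMap F _ a) = algebraMap F _ a from eA.commutes a]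
  exact (IsScalarTower.algebraMap_apply F (Algebra.adjoin F (Set.range ((↑) : t → L))) L a).symm

/-- The point of a scheme below a field valued point, as a morphism out of the residue field. -/
theorem fromSpec_comp {T S₀ : Scheme.{u}} (π : T ⟶ S₀) {η : T} {s : S₀} (h : s = π η) {K : CommRingCat.{u}}
    (ψ : T.residueField η ⟶ K) :
    (Spec.map ψ ≫ T.fromSpecResidueField η) ≫ π =
      Spec.map ((S₀.residueFieldCongr h).hom ≫ π.residueFieldMap η ≫ ψ) ≫ S₀.fromSpecResidueField s := by
  subst h
  rw [Category.assoc, ← Scheme.Hom.SpecMap_residueFieldMap_fromSpecResidueField π η, ← Category.assoc,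
    ← Spec.map_comp]
  simp

end Groth.Agent.VeryGen4
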